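import Groth.Agent.L25.AvgLift.Transfer
import Groth.Agent.L25.Bridge.TorsionLift

/-!
# Averaging: homomorphisms modulo a square zero ideal lift, uniquely up to conjugation
-/

set_option autoImplicit false
universe u

open CategoryTheory CategoryTheory.Limits MonoidalCategory CartesianMonoidalCategory MonObj GrpObj
open AlgebraicGeometry TensorProduct WithConv

set_option linter.style.haveILetI false
set_option backward.isDefEq.respectTransparency.types false

noncomputable section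

namespace Groth.L25.AvgLift

open Groth.L25.TorLift Groth.L25.Char

variable {A : Type u} [CommRing A] {B : Type u} [CommRing B] [HopfAlgebra A B]

/-- the second projection -/
abbrev py (R : Type u) [CommRing R] [Algebra A R] (B : Type u) [CommRing B] [Algebra A B] :
    Xp A (R ⊗[A] B) ⟶ Xp A B :=
  xm (Algebra.TensorProduct.includeRight : B →ₐ[A] R ⊗[A] B)

theorem intL_translate {l : B →ₗ[A] A} (hl : IsInt l) {R : Type u} [CommRing R] [Algebra A R] (φ : B →ₐ[A] R)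
    (b : B) :
    intL l R ((toConv ((Algebra.TensorProduct.includeLeft : R →ₐ[A] R ⊗[A] B).comp φ) *
      toConv (Algebra.TensorProduct.includeRight : B →ₐ[A] R ⊗[A] B)).ofConv b) = algebraMap A R (l b) := by
  have h := hl.2 b
  have e : (toConv ((Algebra.TensorProduct.includeLeft : R →ₐ[A] R ⊗[A] B).comp φ) *
      toConv (Algebra.TensorProduct.includeRight : B →ₐ[A] R ⊗[A] B)).ofConv b =
      TensorProduct.map φ.toLinearMap (LinearMap.id : B →ₗ[A] B) (Coalgebra.comul (R := A) b) := by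
    rw [show (toConv ((Algebra.TensorProduct.includeLeft : R →ₐ[A] R ⊗[A] B).comp φ) *
      toConv (Algebra.TensorProduct.includeRight : B →ₐ[A] R ⊗[A] B)).ofConv b =
      (toConv ((Algebra.TensorProduct.includeLeft : R →ₐ[A] R ⊗[A] B).comp φ).toLinearMap *
      toConv (Algebra.TensorProduct.includeRight : B →ₐ[A] R ⊗[A] B).toLinearMap).ofConv b from
        LinearMap.congr_fun (congrArg WithConv.ofConv (AlgHom.toLinearMap_convMul _ _)) b,
      LinearMap.convMul_apply]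
    generalize Coalgebra.comul (R := A) b = w
    induction w using TensorProduct.induction_on with
    | zero => simp
    | add p q hp hq => simp only [map_add, hp, hq]
    | tmul p q => simp
  have key : ∀ w : B ⊗[A] B, intL l R (TensorProduct.map φ.toLinearMap (LinearMap.id : B →ₗ[A] B) w) =
      φ (TensorProduct.lid A B (intMap l w)) := by
    intro w
    induction w using TensorProduct.induction_on with
    | zero => simp
    | add p q hp hq => simp only [map_add, hp, hq]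
    | tmul p q => simp [intL_tmul, intMap_tmul]
  rw [e, key, h, TensorProduct.lid_tmul, map_smul, map_one, Algebra.algebraMap_eq_smul_one]

/-- a change of variables preserving the integral -/
theorem exists_change {l : B →ₗ[A] A} (hl : IsInt l) {R₀ R : Type u} [CommRing R₀] [Algebra A R₀] [CommRing R]
    [Algebra A R] (f : R₀ →ₐ[A] R) (t : Xp A R ⟶ Xp A B) :
    ∃ Φ : R₀ ⊗[A] B →ₐ[A] R ⊗[A] B, (∀ r, Φ (r ⊗ₜ (1 : B)) = f r ⊗ₜ (1 : B)) ∧
      (∀ w, intL l R (Φ w) = f (intL l R₀ w)) ∧ xm Φ ≫ pl R₀ B = pl R B ≫ xm f ∧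
      xm Φ ≫ py R₀ B = (pl R B ≫ t) * py R B := by
  obtain ⟨φ, rfl⟩ := exists_xm t
  let σ := (toConv ((Algebra.TensorProduct.includeLeft : R →ₐ[A] R ⊗[A] B).comp φ) *
      toConv (Algebra.TensorProduct.includeRight : B →ₐ[A] R ⊗[A] B)).ofConv
  let inl : R →ₐ[A] R ⊗[A] B := Algebra.TensorProduct.includeLeft
  let Φ : R₀ ⊗[A] B →ₐ[A] R ⊗[A] B :=
    Algebra.TensorProduct.lift (inl.comp f) σ fun _ _ => Commute.all _ _
  have hin : ∀ r, Φ (r ⊗ₜ (1 : B)) = f r ⊗ₜ (1 : B) := fun r => by simp [Φ, inl]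
  refine ⟨Φ, hin, fun w => ?_, ?_, ?_⟩
  · induction w using TensorProduct.induction_on with
    | zero => simp
    | add p q hp hq => simp only [map_add, hp, hq]
    | tmul r b =>
      rw [Algebra.TensorProduct.lift_tmul, intL_tmul, map_smul, AlgHom.comp_apply,
        Algebra.TensorProduct.includeLeft_apply, intL_inl_mul, intL_translate hl, Algebra.smul_def]
      exact mul_comm _ _
  · rw [← xm_comp, ← xm_comp]
    congr 1
    exact Algebra.TensorProduct.lift_comp_includeLeft _ _ _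
  · rw [← xm_comp, Algebra.TensorProduct.lift_comp_includeRight', xm_mul, ← xm_comp]

theorem eq_one_of_mk {J : Ideal A} {G : Over (Spec (CommRingCat.of A))} [GrpObj G] {R₀ R : Type u} [CommRing R₀]
    [Algebra A R₀] [CommRing R] [Algebra A R] {a : Xp A R₀ ⟶ G}
    (ha : xm (Ideal.Quotient.mkₐ A (J.map (algebraMap A R₀))) ≫ a = 1) (hR : ∀ r ∈ J, algebraMap A R r = 0)
    (p : Xp A R ⟶ Xp A R₀) : p ≫ a = 1 := by
  obtain ⟨φ, rfl⟩ := exists_xm p
  have hle : ∀ z ∈ J.map (algebraMap A R₀), φ z = 0 := fun z hz => by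
    have h1 := Ideal.mem_map_of_mem φ.toRingHom hz
    rw [Ideal.map_map, AlgHom.toRingHom_eq_coe, AlgHom.comp_algebraMap,
      (Ideal.map_eq_bot_iff_le_ker _).2 (fun r hr => hR r hr), Ideal.mem_bot] at h1
    exact h1
  rw [show φ = (Ideal.Quotient.liftₐ _ φ hle).comp (Ideal.Quotient.mkₐ A (J.map (algebraMap A R₀))) from
    (AlgHom.ext fun _ => rfl), xm_comp, Category.assoc, ha, MonObj.comp_one]

/-- the product of two copies of an affine scheme is affine -/
theorem isIso_pair (B : Type u) [CommRing B] [Algebra A B] :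
    IsIso (lift (xm (Algebra.TensorProduct.includeLeft : B →ₐ[A] B ⊗[A] B))
      (xm (Algebra.TensorProduct.includeRight : B →ₐ[A] B ⊗[A] B)) : Xp A (B ⊗[A] B) ⟶ Xp A B ⊗ Xp A B) := by
  let p : Xp A (B ⊗[A] B) ⟶ Xp A B ⊗ Xp A B := lift (xm (Algebra.TensorProduct.includeLeft : B →ₐ[A] B ⊗[A] B))
    (xm (Algebra.TensorProduct.includeRight : B →ₐ[A] B ⊗[A] B))
  have h : p.left = (pullbackSpecIso A B B).inv := by
    apply pullback.hom_ext
    · exact (congrArg (fun m : Xp A (B ⊗[A] B) ⟶ Xp A B => m.left)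
        (show p ≫ fst _ _ = _ from lift_fst _ _)).trans (pullbackSpecIso_inv_fst A B B).symm
    · exact (congrArg (fun m : Xp A (B ⊗[A] B) ⟶ Xp A B => m.left)
        (show p ≫ snd _ _ = _ from lift_snd _ _)).trans (pullbackSpecIso_inv_snd A B B).symm
  have : IsIso p.left := by rw [h]; exact Iso.isIso_inv _
  have : IsIso ((Over.forget _).map p) := this
  exact isIso_of_reflects_iso p (Over.forget _)

variable {J : Ideal A} {G : Over (Spec (CommRingCat.of A))} [GrpObj G]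

/-- multiplicative over algebras killed by the ideal -/
def MulMod (J : Ideal A) (h : Xp A B ⟶ G) : Prop :=
  ∀ (R : Type u) [CommRing R] [Algebra A R], (∀ r ∈ J, algebraMap A R r = 0) →
    ∀ x y : Xp A R ⟶ Xp A B, (x * y) ≫ h = (x ≫ h) * (y ≫ h)

/-- the deviation from a homomorphism -/
def cc (h : Xp A B ⟶ G) {R : Type u} [CommRing R] [Algebra A R] (x t : Xp A R ⟶ Xp A B) :
    Xp A (R ⊗[A] B) ⟶ G :=
  ((pl R B ≫ x) ≫ h) * (((pl R B ≫ t) * py R B) ≫ h) *
    (((pl R B ≫ x) * ((pl R B ≫ t) * py R B)) ≫ h)⁻¹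

variable {l : B →ₗ[A] A}

theorem exists_avg (hJ : J * J = ⊥) (hl : IsInt l) (h : Xp A B ⟶ G) (hm : MulMod J h) :
    ∃ a : Xp A B ⟶ G,
      (∀ (R : Type u) [CommRing R] [Algebra A R], (∀ r ∈ J, algebraMap A R r = 0) →
        ∀ x : Xp A R ⟶ Xp A B, x ≫ a = 1) ∧
      ∀ (R : Type u) [CommRing R] [Algebra A R] (x t : Xp A R ⟶ Xp A B), IsTr hJ hl (cc h x t) (x ≫ a) := by
  have hc : xm (Ideal.Quotient.mkₐ A (JB J B B)) ≫ cc h (𝟙 (Xp A B)) 1 = 1 := by
    simp only [cc, MonObj.comp_mul, GrpObj.comp_inv, ← Category.assoc]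
    rw [← hm _ (killed_mk J (B ⊗[A] B)), mul_inv_cancel]
  obtain ⟨a, ha⟩ := exists_tr (hJ := hJ) (hl := hl) hc
  refine ⟨a, fun R _ _ hR x => eq_one_of_mk ha.mod hR x, fun R _ _ x t => ?_⟩
  obtain ⟨φ, rfl⟩ := exists_xm x
  obtain ⟨Φ, hin, hint, h1, h2⟩ := exists_change hl φ t
  have h3 := ha.nat Φ φ hin hint
  have e : xm Φ ≫ cc h (𝟙 (Xp A B)) 1 = cc h (xm φ) t := by
    simp only [cc, MonObj.comp_mul, GrpObj.comp_inv, ← Category.assoc, Category.comp_id, MonObj.comp_one,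
      _root_.one_mul, h1, h2]
  rwa [e] at h3

/-- a morphism which is a homomorphism modulo a square zero ideal is corrected to a homomorphism -/
theorem exists_hom_of_mulMod (hJ : J * J = ⊥) (hl : ∃ l : B →ₗ[A] A, IsInt l) (h : Xp A B ⟶ G) (hm : MulMod J h) :
    ∃ u : Xp A B ⟶ G, IsMonHom u ∧
      ∀ (R : Type u) [CommRing R] [Algebra A R], (∀ r ∈ J, algebraMap A R r = 0) →
        ∀ x : Xp A R ⟶ Xp A B, x ≫ u = x ≫ h := by
  obtain ⟨l, hl⟩ := hl
  obtain ⟨a, ha, htr⟩ := exists_avg hJ hl h hm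
  let p₁ : Xp A (B ⊗[A] B) ⟶ Xp A B := xm (Algebra.TensorProduct.includeLeft : B →ₐ[A] B ⊗[A] B)
  let p₂ : Xp A (B ⊗[A] B) ⟶ Xp A B := xm (Algebra.TensorProduct.includeRight : B →ₐ[A] B ⊗[A] B)
  let P := pl (A := A) (B ⊗[A] B) B
  let d : Xp A (B ⊗[A] B) ⟶ G := (p₁ ≫ h) * (p₂ ≫ h) * ((p₁ * p₂) ≫ h)⁻¹
  have hd : xm (Ideal.Quotient.mkₐ A (J.map (algebraMap A (B ⊗[A] B)))) ≫ d = 1 := by
    simp only [d, MonObj.comp_mul, GrpObj.comp_inv, ← Category.assoc]
    rw [← hm _ (killed_mk J (B ⊗[A] B)), mul_inv_cancel]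
  have key : (P ≫ p₁ ≫ h) * cc h p₂ 1 * (P ≫ p₁ ≫ h)⁻¹ * cc h p₁ p₂ = (P ≫ d) * cc h (p₁ * p₂) 1 := by
    simp only [cc, d, P, MonObj.comp_mul, GrpObj.comp_inv, ← Category.assoc, MonObj.comp_one, _root_.one_mul,
      _root_.mul_assoc (pl (B ⊗[A] B) B ≫ p₁)]
    group
  have h1 := (((htr _ p₂ 1).conj (p₁ ≫ h)).mul (htr _ p₁ p₂))
  rw [key] at h1
  have h2 := IsTr.unique h1 ((isTr_const hd).mul (htr _ (p₁ * p₂) 1))
  refine ⟨a⁻¹ * h, Bridge.isMonHom_of_mul _ ?_, fun R _ _ hR x => by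
    rw [MonObj.comp_mul, GrpObj.comp_inv, ha R hR x, inv_one, _root_.one_mul]⟩
  have huniv : (p₁ * p₂) ≫ (a⁻¹ * h) = (p₁ ≫ (a⁻¹ * h)) * (p₂ ≫ (a⁻¹ * h)) := by
    simp only [MonObj.comp_mul, GrpObj.comp_inv]
    simp only [d] at h2
    generalize p₁ ≫ h = G₁ at *
    generalize p₂ ≫ h = G₂ at *
    generalize (p₁ * p₂) ≫ h = G₃ at *
    generalize p₁ ≫ a = a₁ at *
    generalize p₂ ≫ a = a₂ at *
    generalize (p₁ * p₂) ≫ a = a₃ at *
    have h3 : a₃ = G₃ * G₂⁻¹ * G₁⁻¹ * (G₁ * a₂ * G₁⁻¹ * a₁) := by rw [h2]; group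
    rw [h3]
    group
  intro Y x y
  haveI := isIso_pair (A := A) B
  let pr : Xp A (B ⊗[A] B) ⟶ Xp A B ⊗ Xp A B := lift p₁ p₂
  have hpr : IsIso pr := isIso_pair (A := A) B
  let q := lift x y ≫ inv pr
  have q1 : q ≫ p₁ = x := by
    have : inv pr ≫ p₁ = fst _ _ := by rw [IsIso.inv_comp_eq, lift_fst]
    rw [Category.assoc, this, lift_fst]
  have q2 : q ≫ p₂ = y := by
    have : inv pr ≫ p₂ = snd _ _ := by rw [IsIso.inv_comp_eq, lift_snd]
    rw [Category.assoc, this, lift_snd]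
  have h4 := congrArg (q ≫ ·) huniv
  simp only [MonObj.comp_mul, ← Category.assoc, q1, q2] at h4
  simp only [MonObj.comp_mul]
  exact h4

/-- the section of the base -/
def toA : 𝟙_ (Over (Spec (CommRingCat.of A))) ⟶ Xp A A :=
  Over.homMk (𝟙 _) (by
    show 𝟙 _ ≫ Spec.map _ = 𝟙 _
    rw [Category.id_comp, Algebra.algebraMap_self, CommRingCat.ofHom_id, Spec.map_id])

theorem toUnit_toA {R : Type u} [CommRing R] [Algebra A R] :
    toUnit (Xp A R) ≫ toA = xm (Algebra.ofId A R) := by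
  apply Over.OverMorphism.ext
  show (Xp A R).hom ≫ 𝟙 _ = _
  rw [Category.comp_id]
  rfl

/-- homomorphisms agreeing modulo a square zero ideal are conjugate -/
theorem exists_conj (hJ : J * J = ⊥) (hl : ∃ l : B →ₗ[A] A, IsInt l) (u v : Xp A B ⟶ G) [IsMonHom u] [IsMonHom v]
    (hA : ∀ (R : Type u) [CommRing R] [Algebra A R], (∀ r ∈ J, algebraMap A R r = 0) →
      ∀ x : Xp A R ⟶ Xp A B, x ≫ u = x ≫ v) :
    ∃ g : 𝟙_ (Over (Spec (CommRingCat.of A))) ⟶ G,
      (∀ (R : Type u) [CommRing R] [Algebra A R], (∀ r ∈ J, algebraMap A R r = 0) →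
        toUnit (Xp A R) ≫ g = 1) ∧ v = Cocycle.intBy g u := by
  obtain ⟨l, hl⟩ := hl
  let d : Xp A B ⟶ G := v * u⁻¹
  have hd : ∀ (R : Type u) [CommRing R] [Algebra A R], (∀ r ∈ J, algebraMap A R r = 0) →
      ∀ x : Xp A R ⟶ Xp A B, x ≫ d = 1 := fun R _ _ hR x => by
    rw [MonObj.comp_mul, GrpObj.comp_inv, hA R hR x, mul_inv_cancel]
  have hc : xm (Ideal.Quotient.mkₐ A (JB J A B)) ≫ py A B ≫ d = 1 := by
    rw [← Category.assoc]
    exact hd _ (killed_mk J (A ⊗[A] B)) _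
  obtain ⟨g, hg⟩ := exists_tr (hJ := hJ) (hl := hl) hc
  have htr : ∀ t : Xp A B ⟶ Xp A B,
      IsTr hJ hl (((pl B B ≫ t) * py B B) ≫ d) (toUnit (Xp A B) ≫ toA ≫ g) := fun t => by
    obtain ⟨Φ, hin, hint, -, h2⟩ := exists_change hl (Algebra.ofId A B) t
    have h3 := hg.nat Φ (Algebra.ofId A B) hin hint
    rw [← Category.assoc, h2] at h3
    rwa [← Category.assoc, toUnit_toA]
  refine ⟨toA ≫ g, fun R _ _ hR => by
    rw [← Category.assoc, toUnit_toA]
    exact eq_one_of_mk hg.mod hR _, ?_⟩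
  let x := pl (A := A) B B
  let y := py (A := A) B B
  have key : (((pl B B ≫ 𝟙 _) * py B B) ≫ d) =
      (pl B B ≫ d) * ((pl B B ≫ u) * (((pl B B ≫ 1) * py B B) ≫ d) * (pl B B ≫ u)⁻¹) := by
    simp only [d, MonObj.comp_mul, GrpObj.comp_inv, Category.comp_id, MonObj.comp_one, _root_.one_mul,
      MonObj.mul_comp]
    group
  have h1 := htr (𝟙 _)
  rw [key] at h1
  have h2 := IsTr.unique h1 ((isTr_const (hd _ (killed_mk J B) _)).mul ((htr 1).conj u))
  unfold Cocycle.intBy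
  generalize toUnit (Xp A B) ≫ toA ≫ g = γ at h2 ⊢
  simp only [d] at h2
  calc v = (v * u⁻¹) * (u * γ * u⁻¹) * u * γ⁻¹ := by group
    _ = γ * u * γ⁻¹ := by rw [← h2]

end Groth.L25.AvgLift
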