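import Groth.Agent.L25.AvgLift.Main
import Groth.Agent.L25.TorLift.Central
import Groth.Agent.L25.Bridge.SubgroupLift
import Groth.Agent.L25.Bridge.FlatIso
import Groth.Agent.L20.ThickAffine
import Groth.Agent.L19.SmoothLocus

/-!
# Subgroups of multiplicative type from flat subscheme lifts modulo a square zero ideal
-/

set_option autoImplicit false
universe u

open CategoryTheory CategoryTheory.Limits MonoidalCategory CartesianMonoidalCategory MonObj GrpObj
open AlgebraicGeometry TensorProduct WithConv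

set_option linter.style.haveILetI false
set_option backward.isDefEq.respectTransparency.types false

noncomputable section

namespace Groth.L25.AvgLift

open Groth.L25.TorLift

variable {A : Type u} [CommRing A] {J : Ideal A} {G : Over (Spec (CommRingCat.of A))}

theorem red_one [GrpObj G] {X : Over (Spec (CommRingCat.of A))} : red J (1 : X ⟶ G) = 1 :=
  map_one ((Over.pullback (bi J)).homMonoidHom)

theorem red_inv [GrpObj G] {X : Over (Spec (CommRingCat.of A))} (a : X ⟶ G) : red J a⁻¹ = (red J a)⁻¹ :=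
  map_inv ((Over.pullback (bi J)).homMonoidHom) a

/-- morphisms from an affine scheme agreeing on the reduced algebra have equal reductions -/
theorem red_eq_of_killed {B : Type u} [CommRing B] [Algebra A B] {a b : Xp A B ⟶ G}
    (h : ∀ (R : Type u) [CommRing R] [Algebra A R], (∀ r ∈ J, algebraMap A R r = 0) →
      ∀ x : Xp A R ⟶ Xp A B, x ≫ a = x ≫ b) : red J a = red J b := by
  haveI := isIso_red_mk (J := J) B
  rw [← cancel_epi (red J (xm (Ideal.Quotient.mkₐ A (J.map (algebraMap A B))))), ← red_comp, ← red_comp,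
    h _ (killed_mk J B)]

/-- groups of multiplicative type as spectra of Hopf algebras with an integral -/
theorem exists_model (H : Over (Spec (CommRingCat.of A))) [GrpObj H] (hH : SGA3x.IsMultTypeFT H) :
    ∃ (B : Type u) (_ : CommRing B) (_ : HopfAlgebra A B), (∃ l : B →ₗ[A] A, Char.IsInt l) ∧
      ∃ e : Xp A B ≅ H, IsMonHom e.hom ∧ IsMonHom e.inv := by
  haveI := Central.isAffineHom_of_multTypeFT hH
  haveI : IsAffine H.left := isAffine_of_isAffineHom H.hom
  obtain ⟨B, _, _, ⟨e₀⟩⟩ := Bridge.exists_hopf H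
  refine ⟨B, inferInstance, inferInstance,
    Char.exists_integral (Bridge.isMultType_of_locally B (Bridge.locally_of_iso e₀ (Bridge.locally_of_ft hH))),
    ⟨e₀.inv.hom.hom, e₀.hom.hom.hom, congr($(e₀.inv_hom_id).hom.hom), congr($(e₀.hom_inv_id).hom.hom)⟩,
    e₀.inv.hom.isMonHom_hom, e₀.hom.hom.isMonHom_hom⟩

variable [GrpObj G] (hJ : J * J = ⊥) {H : Over (Spec (CommRingCat.of A))} [GrpObj H] (hH : SGA3x.IsMultTypeFT H)

include hJ hH

/-- a morphism which is a homomorphism after reduction is corrected to a homomorphism -/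
theorem exists_hom_red (h : H ⟶ G) [IsMonHom (red J h)] : ∃ u : H ⟶ G, IsMonHom u ∧ red J u = red J h := by
  obtain ⟨B, _, _, hl, e, he, he'⟩ := exists_model H hH
  haveI := he
  haveI := he'
  have hm : MulMod J (e.hom ≫ h) := fun R _ _ hR x y => by
    apply ext_killed hR
    simp only [red_comp, red_mul, MonObj.mul_comp]
  obtain ⟨u, hu, hur⟩ := exists_hom_of_mulMod hJ hl (e.hom ≫ h) hm
  haveI := hu
  refine ⟨e.inv ≫ u, inferInstance, ?_⟩
  rw [red_comp, red_eq_of_killed hur, ← red_comp, Iso.inv_hom_id_assoc]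

/-- homomorphisms with equal reductions are conjugate -/
theorem exists_conj_red (u v : H ⟶ G) [IsMonHom u] [IsMonHom v] (h : red J u = red J v) :
    ∃ g : 𝟙_ (Over (Spec (CommRingCat.of A))) ⟶ G, red J g = 1 ∧ v = Cocycle.intBy g u := by
  obtain ⟨B, _, _, hl, e, he, he'⟩ := exists_model H hH
  haveI := he
  obtain ⟨g, hg, hv⟩ := exists_conj hJ hl (e.hom ≫ u) (e.hom ≫ v) (fun R _ _ hR x => by
    apply ext_killed hR
    rw [red_comp, red_comp, red_comp, red_comp, h])
  refine ⟨g, ?_, ?_⟩
  · have h1 : red J (toUnit (Xp A A) ≫ g) = red J (1 : Xp A A ⟶ G) := red_eq_of_killed fun R _ _ hR x => by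
      rw [← Category.assoc, toUnit_unique (x ≫ toUnit _) (toUnit (Xp A R)), hg R hR, MonObj.comp_one]
    have h2 := congrArg (red J toA ≫ ·) h1
    simp only [← red_comp] at h2
    rw [← Category.assoc, toUnit_unique (toA ≫ toUnit (Xp A A)) (𝟙 _), Category.id_comp, MonObj.comp_one,
      red_one] at h2
    exact h2
  · rw [← cancel_epi e.hom, hv, Cocycle.comp_intBy, Cocycle.intBy]

theorem smooth_of_red [Smooth (Red.bc (bi J) H).hom] : Smooth H.hom := by
  haveI : Flat H.hom := Bridge.flat_of_locally (Bridge.locally_of_ft hH)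
  haveI : LocallyOfFinitePresentation H.hom := Locus.lfp_of_multTypeFT hH
  haveI := surjective_fst (J := J) ⟨2, (pow_two J).trans hJ⟩ H
  haveI : LocallyOfFinitePresentation (Red.bc (bi J) H).hom :=
    MorphismProperty.pullback_snd (P := @LocallyOfFinitePresentation) H.hom (bi J) inferInstance
  rw [← Scheme.Hom.smoothLocus_eq_top_iff, eq_top_iff]
  intro x _
  obtain ⟨z, rfl⟩ := (pullback.fst H.hom (bi J)).surjective x
  refine (Groth.L19.SmoothLocus.mem_iff_nhd _ _).2 ((Groth.L19.SmoothLocus.baseChange_iff H.hom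
    (IsPullback.of_hasPullback H.hom (bi J)) (Or.inl inferInstance) z).1 ?_)
  refine (Groth.L19.SmoothLocus.mem_iff_nhd (Red.bc (bi J) H).hom z).1 ?_
  rw [Scheme.Hom.smoothLocus_eq_top]
  trivial

omit [GrpObj G] in
theorem isImmersion_of_red (u : H ⟶ G) (h : IsImmersion (red J u).left) : IsImmersion u.left := by
  haveI : LocallyOfFiniteType H.hom := TrivLocus.lft_of_multTypeFT hH
  haveI : LocallyOfFiniteType u.left := by
    have : LocallyOfFiniteType (u.left ≫ G.hom) := by rw [Over.w u]; infer_instance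
    exact locallyOfFiniteType_of_comp u.left G.hom
  have sq := (Groth.L08.MulEtale.isPullback_map (bi J) u).flip
  have hth : MoreMor.IsThickening (pullback.fst G.hom (bi J)) := by
    have h1 := (Bridge.isThickening_πJ (J := J) ⟨2, (pow_two J).trans hJ⟩).1
    have h2 := (Bridge.isThickening_πJ (J := J) ⟨2, (pow_two J).trans hJ⟩).2
    exact ⟨MorphismProperty.pullback_fst _ _ h1, MorphismProperty.pullback_fst _ _ h2⟩
  haveI : LocallyOfFiniteType (red J u).left := MorphismProperty.of_isPullback sq inferInstance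
  exact (Groth.Agent.S1316.result (pullback.fst H.hom (bi J)) (pullback.fst G.hom (bi J)) (red J u).left u.left
    hth sq).1 h

/-- a flat subscheme lifting a smooth group of multiplicative type is corrected to a subgroup -/
theorem exists_subgroup_of_flat [Smooth H.hom] (u₀ : Red.bc (bi J) H ⟶ Red.bc (bi J) G) [IsMonHom u₀]
    {H' : Scheme.{u}} (h' : H' ⟶ G.left) [IsImmersion h'] [Flat (h' ≫ G.hom)]
    (e : pullback h' (pullback.fst G.hom (bi J)) ≅ (Red.bc (bi J) H).left)
    (he : e.hom ≫ u₀.left = pullback.snd h' (pullback.fst G.hom (bi J))) :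
    ∃ u : H ⟶ G, IsMonHom u ∧ IsImmersion u.left ∧ Mono u ∧ red J u = u₀ := by
  have hn : IsNilpotent J := ⟨2, (pow_two J).trans hJ⟩
  let Y : Over (Spec (CommRingCat.of A)) := Over.mk (h' ≫ G.hom)
  let hY : Y ⟶ G := Over.homMk h' rfl
  haveI : Flat Y.hom := inferInstanceAs (Flat (h' ≫ G.hom))
  let c := pullbackRightPullbackFstIso G.hom (bi J) h'
  let c' : (Red.bc (bi J) Y).left ≅ pullback h' (pullback.fst G.hom (bi J)) := c.symm
  have hc : c'.hom ≫ pullback.snd h' (pullback.fst G.hom (bi J)) = (red J hY).left := by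
    apply pullback.hom_ext
    · refine Eq.trans ?_ (red_left_fst hY).symm
      exact (Category.assoc _ _ _).trans (pullbackRightPullbackFstIso_inv_snd_fst G.hom (bi J) h')
    · refine Eq.trans ?_ (Over.w (red J hY)).symm
      exact (Category.assoc _ _ _).trans (pullbackRightPullbackFstIso_inv_snd_snd G.hom (bi J) h')
  have hw : (c'.hom ≫ e.hom) ≫ (Red.bc (bi J) H).hom = (Red.bc (bi J) Y).hom := by
    refine Eq.trans ?_ (Over.w (red J hY))
    rw [← Over.w u₀, ← hc, ← he]
    simp only [Category.assoc]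
  let ψ : Red.bc (bi J) Y ⟶ Red.bc (bi J) H := Over.homMk (c'.hom ≫ e.hom) hw
  have hψ : ψ ≫ u₀ = red J hY := Over.OverMorphism.ext (by
    show (c'.hom ≫ e.hom) ≫ u₀.left = _
    rw [Category.assoc, he, hc])
  haveI : IsIso ψ.left := inferInstanceAs (IsIso (c'.hom ≫ e.hom))
  haveI : IsIso ((Over.forget _).map ψ) := inferInstanceAs (IsIso ψ.left)
  haveI : IsIso ψ := isIso_of_reflects_iso ψ (Over.forget _)
  haveI := Central.isAffineHom_of_multTypeFT hH
  haveI : IsAffine H.left := isAffine_of_isAffineHom H.hom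
  haveI : IsAffine (Red.bc (bi J) H).left := inferInstanceAs (IsAffine (pullback H.hom (bi J)))
  haveI : IsAffine (Red.bc (bi J) Y).left := IsAffine.of_isIso ψ.left
  haveI : IsAffine Y.left :=
    @Groth.L20.ThickAffine.isAffine_of_surjective _ _ (pullback.fst Y.hom (bi J)) _ (surjective_fst hn Y).surj ‹IsAffine (Red.bc (bi J) Y).left›
  let C := Γ(Y.left, ⊤)
  letI : Algebra A C := (Spec.preimage (R := CommRingCat.of A) (S := C) (Y.left.isoSpec.inv ≫ Y.hom)).hom.toAlgebra
  let ε : Xp A C ⟶ Y := Over.homMk Y.left.isoSpec.inv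
    (Spec.map_preimage (R := CommRingCat.of A) (S := C) (Y.left.isoSpec.inv ≫ Y.hom)).symm
  haveI : IsIso ε.left := inferInstanceAs (IsIso Y.left.isoSpec.inv)
  haveI : IsIso ((Over.forget _).map ε) := inferInstanceAs (IsIso ε.left)
  haveI : IsIso ε := isIso_of_reflects_iso ε (Over.forget _)
  let K := J.map (algebraMap A C)
  let mk := Ideal.Quotient.mkₐ A K
  obtain ⟨v, hv⟩ := exists_red_eq (killed_mk J C) (red J (xm mk) ≫ red J ε ≫ ψ)
  obtain ⟨φl, hl1, hl2⟩ := Cocycle.isFormallySmoothHom_of_smooth H.hom C K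
    (by rw [pow_two, ← Ideal.map_mul, hJ, Ideal.map_bot]) v.left (Xp A C).hom
    ((Over.w (xm mk)).trans (Over.w v).symm)
  let φ₁ : Xp A C ⟶ H := Over.homMk φl hl2
  have hφ₁ : red J φ₁ = red J ε ≫ ψ := by
    haveI := isIso_red_mk (J := J) C
    rw [← cancel_epi (red J (xm mk)), ← hv, ← red_comp]
    exact congrArg (red J) (Over.OverMorphism.ext hl1)
  let φ : Y ⟶ H := inv ε ≫ φ₁
  have hφ : red J φ = ψ := by
    rw [red_comp, hφ₁, ← Category.assoc, ← red_comp, IsIso.inv_hom_id]
    exact congrArg (· ≫ ψ) ((Over.pullback (bi J)).map_id Y) |>.trans (Category.id_comp ψ)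
  haveI : IsIso φ := Bridge.isIso_of_points hn φ
    (fun T q b => by
      obtain ⟨a, ha⟩ := Bridge.exists_ptBC q (Bridge.ptBC q b ≫ inv ψ)
      refine ⟨a, Bridge.ptBC_injective q ?_⟩
      rw [Bridge.ptBC_map, ha]
      show (Bridge.ptBC q b ≫ inv ψ) ≫ red J φ = _
      rw [hφ, Category.assoc, IsIso.inv_hom_id, Category.comp_id])
    (fun T q a a' h => by
      have h1 := congrArg (Bridge.ptBC q) h
      rw [Bridge.ptBC_map, Bridge.ptBC_map, show (Over.pullback (Bridge.πJ J)).map φ = ψ from hφ, cancel_mono] at h1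
      exact Bridge.ptBC_injective q h1)
  let h : H ⟶ G := inv φ ≫ hY
  have hh : red J h = u₀ := by
    rw [← cancel_epi ψ, hψ, red_comp, ← Category.assoc, ← hφ, ← red_comp, IsIso.hom_inv_id]
    exact congrArg (· ≫ red J hY) ((Over.pullback (bi J)).map_id Y) |>.trans (Category.id_comp _)
  haveI : IsMonHom (red J h) := hh.symm ▸ (inferInstance : IsMonHom u₀)
  obtain ⟨u, hu, hur⟩ := exists_hom_red hJ hH h
  have himm : IsImmersion u₀.left := by
    have : IsImmersion (e.inv ≫ pullback.snd h' (pullback.fst G.hom (bi J))) := inferInstance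
    rwa [← he, Iso.inv_hom_id_assoc] at this
  have himm' : IsImmersion u.left := isImmersion_of_red hJ hH u (by rw [hur, hh]; exact himm)
  haveI : Mono u.left := inferInstance
  exact ⟨u, hu, himm', Over.mono_of_mono_left u, hur.trans hh⟩

end Groth.L25.AvgLift
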