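import Groth.Agent.L25.Char.SmoothLift
import Groth.Agent.L25.TorLift.Main
import Groth.Agent.L20.Pinch.Affine

/-!
# Transfer of points trivial modulo a square zero ideal along an invariant integral
-/

set_option autoImplicit false
universe u

open CategoryTheory CategoryTheory.Limits MonoidalCategory CartesianMonoidalCategory MonObj GrpObj
open AlgebraicGeometry TensorProduct WithConv

set_option linter.style.haveILetI false
set_option backward.isDefEq.respectTransparency.types false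

noncomputable section

namespace Groth.L25.AvgLift

open Groth.L25.TorLift Groth.L25.Char

variable {A : Type u} [CommRing A] {B : Type u} [CommRing B] [HopfAlgebra A B]

theorem intL_inl {l : B →ₗ[A] A} (hl : IsInt l) (R : Type u) [CommRing R] [Algebra A R] (r : R) :
    intL l R (r ⊗ₜ (1 : B)) = r := by
  rw [intL_tmul, hl.1, one_smul]

theorem intL_inl_mul (l : B →ₗ[A] A) (R : Type u) [CommRing R] [Algebra A R] (r : R) (w : R ⊗[A] B) :
    intL l R ((r ⊗ₜ (1 : B)) * w) = r * intL l R w := by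
  induction w using TensorProduct.induction_on with
  | zero => simp
  | add p q hp hq => simp only [_root_.mul_add, map_add, hp, hq]
  | tmul s b => simp [intL_tmul, mul_smul_comm]

section Const

variable (J : Ideal A) (R : Type u) [CommRing R] [Algebra A R] (B : Type u) [CommRing B] [Algebra A B]

/-- the ideal generated in the extended algebra -/
abbrev JB : Ideal (R ⊗[A] B) := J.map (algebraMap A (R ⊗[A] B))

/-- constants modulo the ideal -/
def Z : Subalgebra A (R ⊗[A] B) :=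
  ((Ideal.Quotient.mkₐ A (JB J R B)).comp
    (Algebra.TensorProduct.includeLeft : R →ₐ[A] R ⊗[A] B)).range.comap (Ideal.Quotient.mkₐ A (JB J R B))

/-- the ring of constants modulo the ideal -/
def Zt : Type u := Z J R B

instance instCommRingZt : CommRing (Zt J R B) := inferInstanceAs (CommRing (Z J R B))
instance instAlgebraZt : Algebra A (Zt J R B) := inferInstanceAs (Algebra A (Z J R B))

/-- the inclusion -/
def vZ : Zt J R B →ₐ[A] R ⊗[A] B := (Z J R B).val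

theorem vZ_injective : Function.Injective (vZ J R B) := fun _ _ h => Subtype.ext h

variable {J R B}

theorem mem_Z {z : R ⊗[A] B} : z ∈ Z J R B ↔ ∃ r : R, z - r ⊗ₜ (1 : B) ∈ JB J R B := by
  constructor
  · rintro ⟨r, hr⟩
    exact ⟨r, Ideal.Quotient.eq.1 hr.symm⟩
  · rintro ⟨r, hr⟩
    exact ⟨r, (Ideal.Quotient.eq.2 hr).symm⟩

theorem exists_const (z : Zt J R B) : ∃ r : R, vZ J R B z - r ⊗ₜ (1 : B) ∈ JB J R B :=
  mem_Z.1 (Subtype.prop (show Z J R B from z))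

theorem exists_mkZ (y : R ⊗[A] B) (h : y ∈ Z J R B) : ∃ z : Zt J R B, vZ J R B z = y := ⟨⟨y, h⟩, rfl⟩

/-- maps into the constants -/
def liftZ {S : Type u} [CommRing S] [Algebra A S] (f : S →ₐ[A] R ⊗[A] B) (h : ∀ s, f s ∈ Z J R B) :
    S →ₐ[A] Zt J R B :=
  AlgHom.codRestrict f (Z J R B) h

theorem vZ_liftZ {S : Type u} [CommRing S] [Algebra A S] (f : S →ₐ[A] R ⊗[A] B) (h : ∀ s, f s ∈ Z J R B) :
    (vZ J R B).comp (liftZ f h) = f := rfl

theorem inl_mem (r : R) : (r ⊗ₜ[A] (1 : B)) ∈ Z J R B := mem_Z.2 ⟨r, by rw [sub_self]; exact zero_mem _⟩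

variable (J R B) in
/-- constants -/
def inZ : R →ₐ[A] Zt J R B :=
  liftZ (Algebra.TensorProduct.includeLeft : R →ₐ[A] R ⊗[A] B) fun r => inl_mem r

theorem vZ_inZ : (vZ J R B).comp (inZ J R B) = Algebra.TensorProduct.includeLeft := vZ_liftZ _ _

end Const

attribute [irreducible] Zt instCommRingZt instAlgebraZt vZ liftZ

variable {J : Ideal A} {R : Type u} [CommRing R] [Algebra A R]

theorem mul_JR_eq_zero (hJ : J * J = ⊥) {T : Type u} [CommRing T] [Algebra A T] {x y : T}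
    (hx : x ∈ J.map (algebraMap A T)) (hy : y ∈ J.map (algebraMap A T)) : x * y = 0 :=
  mul_eq_zero_of_mem hJ hx hy

variable {l : B →ₗ[A] A}

theorem π_mul (hJ : J * J = ⊥) (hl : IsInt l) (x y : Zt J R B) :
    intL l R (vZ J R B (x * y)) = intL l R (vZ J R B x) * intL l R (vZ J R B y) := by
  obtain ⟨r, hr⟩ := exists_const x
  obtain ⟨s, hs⟩ := exists_const y
  obtain ⟨p, hp, ex⟩ : ∃ p ∈ JB J R B, vZ J R B x = r ⊗ₜ (1 : B) + p := ⟨_, hr, by ring⟩
  obtain ⟨q, hq, ey⟩ : ∃ q ∈ JB J R B, vZ J R B y = s ⊗ₜ (1 : B) + q := ⟨_, hs, by ring⟩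
  have h0 : p * q = 0 := mul_JR_eq_zero hJ hp hq
  have h1 : intL l R p * intL l R q = 0 := mul_JR_eq_zero hJ (intL_mem l hp) (intL_mem l hq)
  rw [map_mul, ex, ey, show (r ⊗ₜ[A] (1 : B) + p) * (s ⊗ₜ[A] (1 : B) + q) =
    (r ⊗ₜ (1 : B)) * (s ⊗ₜ (1 : B)) + ((r ⊗ₜ (1 : B)) * q + (s ⊗ₜ (1 : B)) * p) + p * q by ring, h0, add_zero,
    map_add, map_add, map_add, map_add, intL_inl_mul, intL_inl_mul, intL_inl_mul, intL_inl hl, intL_inl hl]
  linear_combination -h1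

/-- integration is multiplicative on constants modulo the ideal -/
def π (hJ : J * J = ⊥) (hl : IsInt l) : Zt J R B →ₐ[A] R where
  toFun z := intL l R (vZ J R B z)
  map_one' := by rw [map_one, Algebra.TensorProduct.one_def, intL_inl hl]
  map_mul' x y := π_mul hJ hl x y
  map_zero' := by rw [map_zero, map_zero]
  map_add' x y := by rw [map_add, map_add]
  commutes' a := by rw [AlgHom.commutes, Algebra.TensorProduct.algebraMap_apply, intL_inl hl]

theorem π_apply (hJ : J * J = ⊥) (hl : IsInt l) (z : Zt J R B) : π hJ hl z = intL l R (vZ J R B z) := rfl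

theorem π_inZ (hJ : J * J = ⊥) (hl : IsInt l) : (π hJ hl).comp (inZ J R B) = AlgHom.id A R :=
  AlgHom.ext fun r => by
    rw [AlgHom.comp_apply, π_apply, ← AlgHom.comp_apply (vZ J R B), vZ_inZ, Algebra.TensorProduct.includeLeft_apply,
      intL_inl hl, AlgHom.id_apply]

variable (J R) in
/-- reduction of the constants -/
def qZ : (R ⧸ J.map (algebraMap A R)) →ₐ[A] (R ⊗[A] B ⧸ JB J R B) :=
  Ideal.Quotient.liftₐ _ ((Ideal.Quotient.mkₐ A (JB J R B)).comp Algebra.TensorProduct.includeLeft)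
    fun r hr => Ideal.Quotient.eq_zero_iff_mem.2 (by
      have h1 := Ideal.mem_map_of_mem (Algebra.TensorProduct.includeLeft : R →ₐ[A] R ⊗[A] B).toRingHom hr
      rwa [Ideal.map_map, AlgHom.toRingHom_eq_coe, AlgHom.comp_algebraMap] at h1)

theorem qZ_mk (r : R) : qZ (B := B) J R (Ideal.Quotient.mk _ r) = Ideal.Quotient.mk _ (r ⊗ₜ (1 : B)) := rfl

theorem π_sub_mem (hJ : J * J = ⊥) (hl : IsInt l) (z : Zt J R B) (r : R) (h : vZ J R B z - r ⊗ₜ (1 : B) ∈ JB J R B) :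
    π hJ hl z - r ∈ J.map (algebraMap A R) := by
  have := intL_mem l h
  rwa [map_sub, intL_inl hl, ← π_apply hJ hl] at this

theorem qZ_π (hJ : J * J = ⊥) (hl : IsInt l) (z : Zt J R B) :
    qZ (B := B) J R (Ideal.Quotient.mk _ (π hJ hl z)) = Ideal.Quotient.mk _ (vZ J R B z) := by
  obtain ⟨r, hr⟩ := exists_const z
  rw [Ideal.Quotient.eq.2 (π_sub_mem hJ hl z r hr), qZ_mk]
  exact (Ideal.Quotient.eq.2 hr).symm

theorem qZ_injective (hl : IsInt l) : Function.Injective (qZ (B := B) J R) := by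
  intro a b h
  obtain ⟨a, rfl⟩ := Ideal.Quotient.mk_surjective a
  obtain ⟨b, rfl⟩ := Ideal.Quotient.mk_surjective b
  rw [qZ_mk, qZ_mk, Ideal.Quotient.eq] at h
  have := intL_mem l h
  rw [map_sub, intL_inl hl, intL_inl hl] at this
  exact Ideal.Quotient.eq.2 this

/-- the value modulo the ideal -/
def toQ (hJ : J * J = ⊥) (hl : IsInt l) : Zt J R B →ₐ[A] R ⧸ J.map (algebraMap A R) :=
  (Ideal.Quotient.mkₐ A (J.map (algebraMap A R))).comp (π hJ hl)

theorem isFib (hJ : J * J = ⊥) (hl : IsInt l) :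
    Groth.L20.Pinch.IsFib (toQ (R := R) hJ hl).toRingHom (vZ J R B).toRingHom (qZ (B := B) J R).toRingHom
      (Ideal.Quotient.mk (JB J R B)) where
  comm := RingHom.ext fun z => qZ_π hJ hl z
  inj t _ h := vZ_injective J R B (h.trans (map_zero (vZ J R B)).symm)
  glue a y h := by
    obtain ⟨r, rfl⟩ := Ideal.Quotient.mk_surjective a
    have hy : y ∈ Z J R B := mem_Z.2 ⟨r, Ideal.Quotient.eq.1 (h.symm.trans (qZ_mk r))⟩
    obtain ⟨z, hz⟩ := exists_mkZ y hy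
    refine ⟨z, qZ_injective hl ?_, hz⟩
    exact ((qZ_π hJ hl z).trans (congrArg _ hz)).trans h.symm
  surj := Ideal.Quotient.mk_surjective

theorem toQ_inZ (hJ : J * J = ⊥) (hl : IsInt l) :
    (toQ hJ hl).comp (inZ J R B) = Ideal.Quotient.mkₐ A (J.map (algebraMap A R)) := by
  rw [toQ, AlgHom.comp_assoc, π_inZ, AlgHom.comp_id]

section Hom

attribute [local irreducible] π toQ qZ inZ

variable (hJ : J * J = ⊥) (hl : IsInt l) {G : Over (Spec (CommRingCat.of A))}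

theorem hom_ext {a b : Xp A (Zt J R B) ⟶ G} (h1 : xm (toQ hJ hl) ≫ a = xm (toQ hJ hl) ≫ b)
    (h2 : xm (vZ J R B) ≫ a = xm (vZ J R B) ≫ b) : a = b :=
  Over.OverMorphism.ext ((isFib hJ hl).hom_ext_spec _ _ (congrArg (fun m => m.left) h1)
    (congrArg (fun m => m.left) h2))

theorem exists_glue (g : Xp A (R ⧸ J.map (algebraMap A R)) ⟶ G) (c : Xp A (R ⊗[A] B) ⟶ G)
    (h : xm (qZ (B := B) J R) ≫ g = xm (Ideal.Quotient.mkₐ A (JB J R B)) ≫ c) :
    ∃ c' : Xp A (Zt J R B) ⟶ G, xm (toQ hJ hl) ≫ c' = g ∧ xm (vZ J R B) ≫ c' = c := by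
  obtain ⟨H, h1, h2⟩ := (isFib hJ hl).exists_desc_hom g.left c.left (congrArg (fun m => m.left) h)
  have hw : H ≫ G.hom = (Xp A (Zt J R B)).hom := by
    refine (isFib hJ hl).hom_ext_spec _ _ ?_ ?_
    · exact ((Category.assoc _ _ _).symm.trans (congrArg (· ≫ G.hom) h1)).trans
        ((Over.w g).trans (Over.w (xm (toQ hJ hl))).symm)
    · exact ((Category.assoc _ _ _).symm.trans (congrArg (· ≫ G.hom) h2)).trans
        ((Over.w c).trans (Over.w (xm (vZ J R B))).symm)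
  exact ⟨Over.homMk H hw, Over.OverMorphism.ext h1, Over.OverMorphism.ext h2⟩

variable [GrpObj G]

/-- `a` is the integral of `c` -/
def IsTr (c : Xp A (R ⊗[A] B) ⟶ G) (a : Xp A R ⟶ G) : Prop :=
  ∃ c' : Xp A (Zt J R B) ⟶ G, xm (toQ hJ hl) ≫ c' = 1 ∧ xm (vZ J R B) ≫ c' = c ∧
    xm (π hJ hl) ≫ c' = a

variable {hJ hl}

theorem exists_tr {c : Xp A (R ⊗[A] B) ⟶ G} (hc : xm (Ideal.Quotient.mkₐ A (JB J R B)) ≫ c = 1) :
    ∃ a : Xp A R ⟶ G, IsTr hJ hl c a := by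
  obtain ⟨c', h1, h2⟩ := exists_glue hJ hl (1 : Xp A (R ⧸ J.map (algebraMap A R)) ⟶ G) c
    (by rw [MonObj.comp_one, hc])
  exact ⟨xm (π hJ hl) ≫ c', c', h1, h2, rfl⟩

theorem IsTr.unique {c : Xp A (R ⊗[A] B) ⟶ G} {a b : Xp A R ⟶ G} (ha : IsTr hJ hl c a) (hb : IsTr hJ hl c b) :
    a = b := by
  obtain ⟨c', h1, h2, h3⟩ := ha
  obtain ⟨d', k1, k2, k3⟩ := hb
  rw [← h3, ← k3, hom_ext hJ hl (h1.trans k1.symm) (h2.trans k2.symm)]

theorem IsTr.mul {c d : Xp A (R ⊗[A] B) ⟶ G} {a b : Xp A R ⟶ G} (ha : IsTr hJ hl c a) (hb : IsTr hJ hl d b) :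
    IsTr hJ hl (c * d) (a * b) := by
  obtain ⟨c', h1, h2, h3⟩ := ha
  obtain ⟨d', k1, k2, k3⟩ := hb
  exact ⟨c' * d', by rw [MonObj.comp_mul, h1, k1, _root_.one_mul], by rw [MonObj.comp_mul, h2, k2],
    by rw [MonObj.comp_mul, h3, k3]⟩

/-- the projection to the constants -/
abbrev pl (R : Type u) [CommRing R] [Algebra A R] (B : Type u) [CommRing B] [Algebra A B] :
    Xp A (R ⊗[A] B) ⟶ Xp A R :=
  xm (Algebra.TensorProduct.includeLeft : R →ₐ[A] R ⊗[A] B)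

theorem inZ_toQ : xm (toQ (R := R) hJ hl) ≫ xm (inZ J R B) = xm (Ideal.Quotient.mkₐ A (J.map (algebraMap A R))) := by
  rw [← xm_comp, toQ_inZ]

theorem inZ_val : xm (vZ J R B) ≫ xm (inZ J R B) = pl R B := by
  rw [← xm_comp, vZ_inZ]

theorem xm_id (T : Type u) [CommRing T] [Algebra A T] : xm (AlgHom.id A T) = 𝟙 (Xp A T) :=
  Over.OverMorphism.ext (Spec.map_id _)

theorem inZ_π : xm (π (R := R) hJ hl) ≫ xm (inZ J R B) = 𝟙 _ := by
  rw [← xm_comp, π_inZ, xm_id]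

theorem isTr_const {g : Xp A R ⟶ G} (hg : xm (Ideal.Quotient.mkₐ A (J.map (algebraMap A R))) ≫ g = 1) :
    IsTr hJ hl (pl R B ≫ g) g :=
  ⟨xm (inZ J R B) ≫ g, by rw [← Category.assoc, inZ_toQ, hg], by rw [← Category.assoc, inZ_val],
    by rw [← Category.assoc, inZ_π, Category.id_comp]⟩

theorem IsTr.conj {c : Xp A (R ⊗[A] B) ⟶ G} {a : Xp A R ⟶ G} (ha : IsTr hJ hl c a) (g : Xp A R ⟶ G) :
    IsTr hJ hl ((pl R B ≫ g) * c * (pl R B ≫ g)⁻¹) (g * a * g⁻¹) := by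
  obtain ⟨c', h1, h2, h3⟩ := ha
  refine ⟨(xm (inZ J R B) ≫ g) * c' * (xm (inZ J R B) ≫ g)⁻¹, ?_, ?_, ?_⟩
  · rw [MonObj.comp_mul, MonObj.comp_mul, h1, _root_.mul_one, GrpObj.comp_inv, mul_inv_cancel]
  · rw [MonObj.comp_mul, MonObj.comp_mul, h2, GrpObj.comp_inv, ← Category.assoc, inZ_val]
  · rw [MonObj.comp_mul, MonObj.comp_mul, h3, GrpObj.comp_inv, ← Category.assoc, inZ_π, Category.id_comp]

theorem IsTr.mod {c : Xp A (R ⊗[A] B) ⟶ G} {a : Xp A R ⟶ G} (ha : IsTr hJ hl c a) :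
    xm (Ideal.Quotient.mkₐ A (J.map (algebraMap A R))) ≫ a = 1 := by
  obtain ⟨c', h1, -, h3⟩ := ha
  rw [← h3, ← Category.assoc, ← xm_comp]
  simp only [toQ] at h1
  exact h1

theorem IsTr.nat {c : Xp A (R ⊗[A] B) ⟶ G} {a : Xp A R ⟶ G} (ha : IsTr hJ hl c a) {R' : Type u} [CommRing R']
    [Algebra A R'] (Φ : R ⊗[A] B →ₐ[A] R' ⊗[A] B) (f : R →ₐ[A] R')
    (hin : ∀ r, Φ (r ⊗ₜ (1 : B)) = f r ⊗ₜ (1 : B)) (hint : ∀ w, intL l R' (Φ w) = f (intL l R w)) :
    IsTr hJ hl (xm Φ ≫ c) (xm f ≫ a) := by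
  obtain ⟨c', h1, h2, h3⟩ := ha
  have hle : ∀ w ∈ JB J R B, Φ w ∈ JB J R' B := fun w hw => by
    have h1 := Ideal.mem_map_of_mem Φ.toRingHom hw
    rwa [Ideal.map_map, AlgHom.toRingHom_eq_coe, AlgHom.comp_algebraMap] at h1
  have hZ : ∀ z : Zt J R B, (Φ.comp (vZ J R B)) z ∈ Z J R' B := fun z => by
    obtain ⟨r, hr⟩ := exists_const z
    refine mem_Z.2 ⟨f r, ?_⟩
    rw [← hin, AlgHom.comp_apply, ← map_sub]
    exact hle _ hr
  let ΦZ : Zt J R B →ₐ[A] Zt J R' B := liftZ (Φ.comp (vZ J R B)) hZ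
  have hv : ∀ z, vZ J R' B (ΦZ z) = Φ (vZ J R B z) := fun z => AlgHom.congr_fun (vZ_liftZ _ hZ) z
  let fq : (R ⧸ J.map (algebraMap A R)) →ₐ[A] R' ⧸ J.map (algebraMap A R') :=
    Ideal.Quotient.liftₐ _ ((Ideal.Quotient.mkₐ A (J.map (algebraMap A R'))).comp f) fun r hr =>
      Ideal.Quotient.eq_zero_iff_mem.2 (by
        have h1 := Ideal.mem_map_of_mem f.toRingHom hr
        rwa [Ideal.map_map, AlgHom.toRingHom_eq_coe, AlgHom.comp_algebraMap] at h1)
  have e2 : (π hJ hl).comp ΦZ = f.comp (π hJ hl) := AlgHom.ext fun z => by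
    rw [AlgHom.comp_apply, AlgHom.comp_apply, π_apply, π_apply, hv, hint]
  have e1 : (toQ hJ hl).comp ΦZ = fq.comp (toQ hJ hl) := by
    rw [toQ, toQ, AlgHom.comp_assoc, e2]
    rfl
  refine ⟨xm ΦZ ≫ c', ?_, ?_, ?_⟩
  · rw [← Category.assoc, ← xm_comp, e1, xm_comp, Category.assoc, h1, MonObj.comp_one]
  · rw [← Category.assoc, ← xm_comp, vZ_liftZ, xm_comp, Category.assoc, h2]
  · rw [← Category.assoc, ← xm_comp, e2, xm_comp, Category.assoc, h3]

end Hom

end Groth.L25.AvgLift
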